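import Groth.Agent.CurveEmbed.Equiv
import Groth.Agent.SurfExtn.IdealOfMono
import Groth.Agent.HyperellLib.DegTwo
import Groth.Agent.CurveCohLib.Clifford
import Groth.Agent.H23.PicMul

/-!
Degree one modules on curves of genus one are the modules of rational points.
-/

set_option autoImplicit false
set_option linter.style.haveILetI false
set_option linter.unusedSectionVars false
set_option backward.isDefEq.respectTransparency false
set_option backward.isDefEq.respectTransparency.types false

universe u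

open CategoryTheory CategoryTheory.Limits AlgebraicGeometry TopologicalSpace Opposite

noncomputable section

attribute [local instance] Curv2.resAlgebra Groth.Agent.CurveBC.overBar

namespace Groth.Agent.GenusOnePt

open Groth.Agent Groth.Agent.CurveBundle Groth.Agent.CurvePoint
open scoped Groth.Agent.H23.PicMul

/-- A smaller ideal sheaf dies in the larger quotient. -/
theorem comp_toSubscheme_of_le {X : Scheme.{u}} {Z I : X.IdealSheafData} (h : Z ≤ I) :
    ClSub.idealModι Z ≫ ClSub.toSubscheme I = 0 := by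
  ext W t
  refine TopCat.Presheaf.section_ext (⟨_, (ClSub.quotMod I).isSheaf⟩ : TopCat.Sheaf Ab X) W _ _ fun x hx => ?_
  obtain ⟨U, hU, hxU, hUW⟩ := exists_isAffineOpen_mem_and_subset (show x ∈ W from hx)
  have h00 : I.subschemeι.app U (OmegaSh.idealSect Z U ((ClSub.idealMod Z).presheaf.map (homOfLE hUW).op t)) = 0 :=
    RingHom.mem_ker.1 ((I.ker_subschemeι_app ⟨U, hU⟩).ge (h ⟨U, hU⟩ (OmegaLib.idealSect_mem Z ⟨U, hU⟩ _)))
  have h0 : (ClSub.toSubscheme I).app U ((ClSub.idealModι Z).app U
      ((ClSub.idealMod Z).presheaf.map (homOfLE hUW).op t)) = 0 := h00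
  have h1 := ConcreteCategory.congr_hom ((ClSub.idealModι Z ≫ ClSub.toSubscheme I).mapPresheaf.naturality (homOfLE hUW).op) t
  have h2 : (ClSub.quotMod I).presheaf.map (homOfLE hUW).op
      ((ClSub.idealModι Z ≫ ClSub.toSubscheme I).app W t) = 0 := h1.symm.trans h0
  refine Eq.trans ((TopCat.Presheaf.germ_res_apply (ClSub.quotMod I).presheaf (homOfLE hUW) x hxU _).symm.trans
    (congrArg _ h2)) ?_
  simp

variable {X : Scheme.{u}} (k : Type u) [Field k] [X.Over (Spec (CommRingCat.of k))] [IsIntegral X]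
  [IsProper (X ↘ Spec (CommRingCat.of k))] [Smooth (X ↘ Spec (CommRingCat.of k))]
  (hdim : topologicalKrullDim X = 1)
  (h0 : Module.finrank k (Coh.HH X (Coh.structureModule X) 0) = 1) (hg : Curv2.genus k X = 1)

include k hdim

theorem isInvertible_pt {x : X} (hx : IsClosed ({x} : Set X)) : PicF.IsInvertible (ptMod x hx) :=
  CurveEmbed.isInvertible_point k hdim hx (CurveEmbed.isIntegrallyClosed_of_smooth k hdim hx
    (by rw [Scheme.Hom.smoothLocus_eq_top]; trivial))

omit hdim in
theorem finrank_residue {x : X} (hb : Function.Bijective (Curv2.resMap k X x)) :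
    Module.finrank k (X.residueField x) = 1 := by
  have hb' : Function.Bijective (Algebra.linearMap k (X.residueField x)) := hb
  rw [← (LinearEquiv.ofBijective _ hb').finrank_eq, Module.finrank_self]

omit hdim in
/-- The residue field of a closed point is finite over the base. -/
theorem finite_residue {x : X} (hx : IsClosed ({x} : Set X)) : Module.Finite k (X.residueField x) := by
  haveI : IsClosedImmersion (X.fromSpecResidueField x) :=
    IsClosedImmersion.of_isPreimmersion _ (by rw [Scheme.range_fromSpecResidueField]; exact hx)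
  have h : LocallyOfFiniteType (Spec.map (CommRingCat.ofHom (Curv2.resMap k X x))) := by
    rw [← GeomConn5.spec_resMap]; infer_instance
  haveI : Algebra.FiniteType k (X.residueField x) :=
    (HasRingHomProperty.Spec_iff (P := @LocallyOfFiniteType)).1 h
  exact finite_of_finite_type_of_isJacobsonRing k (X.residueField x)

include h0 hg

/-- A module of degree one has exactly one section in genus one. -/
theorem h0_deg_one {J : X.Modules} (hJ : PicF.IsInvertible J) (hd : Curv2.deg k X J 1 = 1) :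
    Module.finrank k (Coh.HH X J 0) = 1 := by
  obtain ⟨_, _, _, hd', _, _⟩ := CurveBC.bar_facts k X hdim h0
  haveI := quasiSeparatedSpace_of_quasiSeparated (X ↘ Spec (CommRingCat.of k))
  haveI := QuasiCompact.compactSpace_of_compactSpace (X ↘ Spec (CommRingCat.of k))
  have hpb := CurveBC.isPullback_bar k X
  let π := Curv2.bcFst k X (AlgebraicClosure k)
  have hq := ProjUPX.isQCoh_of_isInvertible hJ
  have hJ' := PicClLib.isInvertible_pullback π hJ
  have h1 := CurveCohLib.Clifford.deg_eq (AlgebraicClosure k) hd' hJ'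
  rw [CurveBC.deg_eq k (AlgebraicClosure k) π hpb J hq, hd, CurveBC.genus_eq k (AlgebraicClosure k) π hpb, hg] at h1
  rw [← CurveBC.finrank_hh k (AlgebraicClosure k) π hpb J hq]
  by_contra hne
  rcases CurveCohLib.Clifford.dichotomy (AlgebraicClosure k) hd' hJ' (m := 1) (by omega) with h | h <;>
    rw [CurveBC.deg_eq k (AlgebraicClosure k) π hpb J hq, hd] at h
  · rw [CurveBC.genus_eq k (AlgebraicClosure k) π hpb, hg] at h
    omega
  · omega

/-- A module of degree one is the inverse of the ideal of a rational point. -/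
theorem exists_point {J : X.Modules} (hJ : PicF.IsInvertible J) (hd : Curv2.deg k X J 1 = 1) :
    ∃ (P : X) (hP : IsClosed ({P} : Set X)), Function.Bijective (Curv2.resMap k X P) ∧
      PicF.cl J * PicF.cl (ptMod P hP) = 1 := by
  haveI := CurveCohLib.isNoetherian_of_proper (k := k) (X := X)
  obtain ⟨N, hN, hdN, ⟨eN⟩⟩ := CurveDuality.exists_inverse_deg k hdim hJ
  rw [hd] at hdN
  obtain ⟨s, hs⟩ := CurveRR.exists_hom_ne_zero k (P := J) (by rw [h0_deg_one k hdim h0 hg hJ hd]; omega)
  haveI : (AmpleVan.tw N).IsEquivalence := AmpleVan.isEquivalence_tw hN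
  obtain ⟨c⟩ := H23.PicMul.comm (Coh.structureModule X) N
  let u : N ⟶ Coh.structureModule X :=
    ((KFlatLib.tensorStructureIso X).app N).inv ≫ c.inv ≫ (AmpleVan.tw N).map s ≫ eN.hom
  have hu : u ≠ 0 := fun hu0 => hs <| by
    refine (AmpleVan.tw N).map_injective ?_
    have h1 : c.hom ≫ ((KFlatLib.tensorStructureIso X).app N).hom ≫ u ≫ eN.inv = (AmpleVan.tw N).map s := by
      simp only [u, Category.assoc, Iso.hom_inv_id_assoc, Iso.hom_inv_id, Category.comp_id]
    rw [← h1, hu0, zero_comp, comp_zero, comp_zero, Functor.map_zero]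
  haveI : Mono u := InvEnd.mono_of_ne_zero hN CurveDeg.isInvertible_structureModule u hu
  obtain ⟨Z, e, he⟩ := SurfExtn.exists_ideal u (ProjUPX.isQCoh_of_isInvertible hN)
  have hZ : (Z.support : Set X).Nonempty := by
    rw [Set.nonempty_iff_ne_empty]
    intro hemp
    have hq : IsZero (ClSub.quotMod Z) := CurveCohLib.isZero_of_subsingleton_stalks fun x => by
      refine ParShLib.subsingleton_stalk_quotMod Z fun hx => ?_
      have : x ∈ (Z.support : Set X) := hx
      rw [hemp] at this
      exact this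
    haveI : IsIso (ClSub.idealModι Z) := kernel.ι_of_zero (hq.eq_of_tgt _ _)
    have h1 := CurveRR.deg_congr k (e ≪≫ asIso (ClSub.idealModι Z)) 1
    rw [CurveDeg.deg_structureModule] at h1
    omega
  haveI : JacobsonSpace X := LocallyOfFiniteType.jacobsonSpace (X ↘ Spec (CommRingCat.of k))
  obtain ⟨P, hPZ, hP⟩ := nonempty_inter_closedPoints (X := X) hZ Z.support.isClosed.isLocallyClosed
  have hle : Z ≤ ptIdeal P hP :=
    Scheme.IdealSheafData.le_support_iff_le_vanishingIdeal.1 (by
      intro z hz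
      obtain rfl : z = P := hz
      exact hPZ)
  let w : ClSub.idealMod Z ⟶ ptMod P hP := kernel.lift _ (ClSub.idealModι Z) (comp_toSubscheme_of_le hle)
  have hw : e.hom ≫ w ≠ 0 := fun h => hu <| by
    rw [← he, ← kernel.lift_ι _ (ClSub.idealModι Z) (comp_toSubscheme_of_le hle), ← Category.assoc]
    show (e.hom ≫ w) ≫ _ = 0
    rw [h, zero_comp]
  have hPi := isInvertible_pt k hdim hP
  obtain ⟨hdeg, hiso⟩ := CurveDeg.deg_le_and_isIso k hdim.le hN hPi _ hw
  rw [CurveEmbed.deg_point k hP, hdN] at hdeg hiso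
  haveI : Module.Finite k (X.residueField P) := finite_residue k hP
  have hpos : 0 < Module.finrank k (X.residueField P) := Module.finrank_pos
  have h1 : Module.finrank k (X.residueField P) = 1 := by omega
  haveI := hiso (by omega)
  refine ⟨P, hP, ?_, ?_⟩
  · refine ⟨(Curv2.resMap k X P).injective, fun z => ?_⟩
    obtain ⟨c, hc⟩ := (finrank_eq_one_iff_of_nonzero' (1 : X.residueField P) one_ne_zero).1 h1 z
    exact ⟨c, (mul_one _).symm.trans hc⟩
  · rw [← H23.PicMul.cl_eq_iff.2 ⟨asIso (e.hom ≫ w)⟩, ← H23.PicMul.cl_tensor, H23.PicMul.one_def,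
      H23.PicMul.cl_eq_iff]
    exact ⟨eN⟩

/-- Rational points with isomorphic ideals are equal. -/
theorem eq_of_iso {P Q : X} (hP : IsClosed ({P} : Set X)) (hQ : IsClosed ({Q} : Set X))
    (hPr : Function.Bijective (Curv2.resMap k X P)) (e : ptMod Q hQ ≅ ptMod P hP) : P = Q := by
  by_contra hne
  have hPi := isInvertible_pt k hdim hP
  obtain ⟨D, hD, hdD, ⟨eD⟩⟩ := CurveDuality.exists_inverse_deg k hdim hPi
  rw [CurveEmbed.deg_point k hP, finrank_residue k hPr] at hdD
  have hh := h0_deg_one k hdim h0 hg hD (by rw [hdD]; norm_num)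
  have hne0 : ClSub.idealModι (ptIdeal P hP) ≠ 0 := CurveEmbed.idealModι_ne_zero (L := D) eD
  obtain ⟨ψ, hψ⟩ := CurveEmbed.exists_endo_of_h0 k hD eD hh.le (e.inv ≫ ClSub.idealModι (ptIdeal Q hQ))
    (ClSub.idealModι (ptIdeal P hP)) hne0
  refine CurveEmbed.idealMod_comp_toSubscheme_ne_zero hQ hP hne ?_
  rw [show ClSub.idealModι (ptIdeal Q hQ) = e.hom ≫ ψ ≫ ClSub.idealModι (ptIdeal P hP) from
    (Iso.inv_comp_eq e).1 hψ, Category.assoc, Category.assoc,
    show ClSub.idealModι (ptIdeal P hP) ≫ ClSub.toSubscheme (ptIdeal P hP) = 0 from kernel.condition _,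
    comp_zero, comp_zero]

/-- Modules of degree zero and rational points. -/
theorem existsUnique_point {O : X} (hOc : IsClosed ({O} : Set X)) (hO : Function.Bijective (Curv2.resMap k X O))
    {L : X.Modules} (hL : PicF.IsInvertible L) (hdeg : Curv2.deg k X L 1 = 0) :
    ∃! P : {x : X // IsClosed ({x} : Set X) ∧ Function.Bijective (Curv2.resMap k X x)},
      Nonempty (CohB1.tensorMod L (ptMod P.1 P.2.1) ≅ ptMod O hOc) := by
  obtain ⟨D, hD, hdD, ⟨eD⟩⟩ := CurveDuality.exists_inverse_deg k hdim (isInvertible_pt k hdim hOc)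
  rw [CurveEmbed.deg_point k hOc, finrank_residue k hO] at hdD
  have hJd : Curv2.deg k X (CohB1.tensorMod L D) 1 = Curv2.deg k X L 1 + Curv2.deg k X D 1 :=
    CurveRR.deg_tensor k hdim hL hD
  rw [hdeg, hdD] at hJd
  obtain ⟨P, hP, hPr, hJP⟩ := exists_point k hdim h0 hg (InvX.isInvertible_tensorMod hL hD) (by rw [hJd]; norm_num)
  have hOD : PicF.cl (ptMod O hOc) * PicF.cl D = 1 := by
    rw [← H23.PicMul.cl_tensor, H23.PicMul.one_def, H23.PicMul.cl_eq_iff]
    exact ⟨eD⟩
  rw [H23.PicMul.cl_tensor] at hJP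
  have hLP : PicF.cl L * PicF.cl (ptMod P hP) = PicF.cl (ptMod O hOc) := by
    calc PicF.cl L * PicF.cl (ptMod P hP)
        = PicF.cl L * PicF.cl (ptMod P hP) * (PicF.cl (ptMod O hOc) * PicF.cl D) := by rw [hOD, mul_one]
      _ = PicF.cl L * PicF.cl D * PicF.cl (ptMod P hP) * PicF.cl (ptMod O hOc) := by ac_rfl
      _ = PicF.cl (ptMod O hOc) := by rw [hJP, one_mul]
  refine ⟨⟨P, hP, hPr⟩, H23.PicMul.cl_eq_iff.1 ((H23.PicMul.cl_tensor _ _).trans hLP), ?_⟩
  rintro ⟨Q, hQ, hQr⟩ hLQ
  have h1 := H23.PicMul.cl_eq_iff.2 hLQ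
  rw [H23.PicMul.cl_tensor, ← hLP] at h1
  obtain ⟨e⟩ := H23.PicMul.cl_eq_iff.1 ((H23.PicMul.isUnit_cl hL).mul_left_cancel h1)
  exact Subtype.ext (eq_of_iso k hdim h0 hg hP hQ hPr e).symm

end Groth.Agent.GenusOnePt
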