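import Groth.Agent.GenusOnePt.Residual
import Groth.Agent.HypEll.Quot
import Groth.Agent.HyperellLib.DegTwo
import Groth.Agent.LinSys.Degree
import Groth.Agent.S7810
import Groth.Agent.S10829
import Groth.Agent.ExtShX.PnSmooth

/-!
Involutions of a curve of genus one exchanging two given points.
-/

set_option autoImplicit false
set_option linter.style.haveILetI false
set_option linter.unusedSectionVars false
set_option backward.isDefEq.respectTransparency false
set_option backward.isDefEq.respectTransparency.types false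
set_option maxHeartbeats 800000

universe u

open CategoryTheory CategoryTheory.Limits AlgebraicGeometry TopologicalSpace Opposite

noncomputable section

attribute [local instance] Curv2.resAlgebra

namespace Groth.Agent.GenusOnePt

open Groth.Agent Groth.Agent.CurveBundle Groth.Agent.CurvePoint
open scoped Groth.Agent.H23.PicMul

variable {k : Type u} [Field k] [IsAlgClosed k] {X : Scheme.{u}} [X.Over (Spec (CommRingCat.of k))] [IsIntegral X]
  [IsProper (X ↘ Spec (CommRingCat.of k))] [Smooth (X ↘ Spec (CommRingCat.of k))]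
  (hdim : topologicalKrullDim X = 1)

include hdim

/-- The deck involution of a separable map of degree two. -/
theorem exists_deck_of_functionField {Y : Scheme.{u}} [Y.Over (Spec (CommRingCat.of k))] [IsIntegral Y]
    [IsProper (Y ↘ Spec (CommRingCat.of k))]
    (f : X ⟶ Y) [IsFinite f] (hf : f ≫ (Y ↘ Spec (CommRingCat.of k)) = X ↘ Spec (CommRingCat.of k))
    (e : f (genericPoint X) = genericPoint Y) (hdeg : f.residueDegree (genericPoint X) = 2)
    (hsep : letI := ((Y.presheaf.stalkSpecializes (specializes_of_eq e) ≫ f.stalkMap (genericPoint X)).hom).toAlgebra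
      Algebra.IsSeparable Y.functionField X.functionField) :
    ∃ σ : X ⟶ X, σ ≫ (X ↘ Spec (CommRingCat.of k)) = X ↘ Spec (CommRingCat.of k) ∧ σ ≫ σ = 𝟙 X ∧
      σ ≫ f = f ∧ σ ≠ 𝟙 X := by
  have hiso : IsIso (Y.presheaf.stalkSpecializes (specializes_of_eq e)) :=
    inferInstanceAs (IsIso (Y.presheaf.stalkCongr (.of_eq e.symm)).hom)
  let u : Y.functionField ⟶ X.functionField :=
    Y.presheaf.stalkSpecializes (specializes_of_eq e) ≫ f.stalkMap (genericPoint X)
  have hrk := HypEll.finrank_functionField X Y f e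
  rw [hdeg] at hrk
  letI : Algebra Y.functionField X.functionField := u.hom.toAlgebra
  haveI : Algebra.IsSeparable Y.functionField X.functionField := hsep
  haveI : Algebra.IsQuadraticExtension Y.functionField X.functionField := { finrank_eq_two' := hrk }
  haveI : FiniteDimensional Y.functionField X.functionField := Module.finite_of_finrank_pos (by omega)
  have hcard : Nat.card (X.functionField ≃ₐ[Y.functionField] X.functionField) = 2 :=
    (IsGalois.card_aut_eq_finrank _ _).trans hrk
  obtain ⟨s, hs⟩ : ∃ s : X.functionField ≃ₐ[Y.functionField] X.functionField, s ≠ 1 := by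
    by_contra hall
    push Not at hall
    haveI : Subsingleton (X.functionField ≃ₐ[Y.functionField] X.functionField) :=
      ⟨fun a b => (hall a).trans (hall b).symm⟩
    rw [Nat.card_unique] at hcard
    omega
  have hs2 : s * s = 1 := by
    rw [← pow_two, ← hcard]
    exact pow_card_eq_one'
  let ψ : X.functionField ⟶ X.functionField := CommRingCat.ofHom s.toRingEquiv.toRingHom
  have huψ : u ≫ ψ = u := CommRingCat.hom_ext (RingHom.ext fun a => s.commutes a)
  have hψψ : ψ ≫ ψ = 𝟙 _ := CommRingCat.hom_ext (RingHom.ext fun a => DFunLike.congr_fun hs2 a)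
  have hspecu : Spec.map u ≫ Y.fromSpecStalk (genericPoint Y) = X.fromSpecStalk (genericPoint X) ≫ f := by
    rw [Spec.map_comp, Category.assoc, Scheme.SpecMap_stalkSpecializes_fromSpecStalk,
      Scheme.SpecMap_stalkMap_fromSpecStalk]
  have huk : CurveLuroth.ffC (Y ↘ Spec (CommRingCat.of k)) ≫ u = CurveLuroth.ffC (X ↘ Spec (CommRingCat.of k)) := by
    refine Spec.map_injective ?_
    rw [Spec.map_comp, CurveLuroth.spec_ffC, ← Category.assoc, hspecu, CurveLuroth.spec_ffC, Category.assoc]
    exact congrArg _ hf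
  have hψk : CurveLuroth.ffC (X ↘ Spec (CommRingCat.of k)) ≫ ψ = CurveLuroth.ffC (X ↘ Spec (CommRingCat.of k)) := by
    rw [← huk, Category.assoc, huψ]
  have hvX : ∀ y : X, ValuationRing (X.presheaf.stalk y) := CurveGenusMono.valuationRing_of_regular k X hdim
    fun z => GrpSchLib.isRegularLocalRing_stalk_of_smooth (X ↘ Spec (CommRingCat.of k)) z
  obtain ⟨σ, hση, hσp, hσψ⟩ := CurveGenusMono.exists_morphism_of_functionField
    (X ↘ Spec (CommRingCat.of k)) (X ↘ Spec (CommRingCat.of k)) hvX ψ hψk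
  have hg : X.fromSpecStalk (genericPoint X) ≫ σ = Spec.map ψ ≫ X.fromSpecStalk (genericPoint X) := by
    rw [← hσψ, Spec.map_comp, Category.assoc, Scheme.SpecMap_stalkSpecializes_fromSpecStalk,
      Scheme.SpecMap_stalkMap_fromSpecStalk]
  haveI : IsDominant (X.fromSpecStalk (genericPoint X)) := by
    refine ⟨fun z => (genericPoint_specializes z).mem_closed isClosed_closure (subset_closure ?_)⟩
    rw [Scheme.range_fromSpecStalk]
    exact specializes_rfl
  haveI : X.IsSeparated := ⟨by rw [← terminal.comp_from (X ↘ Spec (CommRingCat.of k))]; infer_instance⟩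
  haveI : Y.IsSeparated := ⟨by rw [← terminal.comp_from (Y ↘ Spec (CommRingCat.of k))]; infer_instance⟩
  refine ⟨σ, hσp, ext_of_isDominant (X.fromSpecStalk (genericPoint X)) ?_,
    ext_of_isDominant (X.fromSpecStalk (genericPoint X)) ?_, fun h => hs ?_⟩
  · rw [reassoc_of% hg, hg, ← Category.assoc, ← Spec.map_comp, hψψ, Spec.map_id, Category.id_comp,
      Category.comp_id]
  · rw [reassoc_of% hg, ← hspecu, ← Category.assoc, ← Spec.map_comp, huψ]
  · refine AlgEquiv.ext fun a => ?_
    have h1 : ψ = 𝟙 _ := by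
      refine Spec.map_injective ?_
      rw [← cancel_mono (X.fromSpecStalk (genericPoint X)), ← hg, h, Spec.map_id, Category.id_comp,
        Category.comp_id]
    exact ConcreteCategory.congr_hom h1 a

/-- The deck involution, with separability on residue fields. -/
theorem exists_deck {Y : Scheme.{u}} [Y.Over (Spec (CommRingCat.of k))] [IsIntegral Y]
    [IsProper (Y ↘ Spec (CommRingCat.of k))]
    (f : X ⟶ Y) [IsFinite f] (hf : f ≫ (Y ↘ Spec (CommRingCat.of k)) = X ↘ Spec (CommRingCat.of k))
    (e : f (genericPoint X) = genericPoint Y) (hdeg : f.residueDegree (genericPoint X) = 2)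
    (hsep : letI := (f.residueFieldMap (genericPoint X)).hom.toAlgebra
      Algebra.IsSeparable (Y.residueField (f (genericPoint X))) (X.residueField (genericPoint X))) :
    ∃ σ : X ⟶ X, σ ≫ (X ↘ Spec (CommRingCat.of k)) = X ↘ Spec (CommRingCat.of k) ∧ σ ≫ σ = 𝟙 X ∧
      σ ≫ f = f ∧ σ ≠ 𝟙 X := by
  have hiso : IsIso (Y.presheaf.stalkSpecializes (specializes_of_eq e)) :=
    inferInstanceAs (IsIso (Y.presheaf.stalkCongr (.of_eq e.symm)).hom)
  let u : Y.functionField ⟶ X.functionField :=
    Y.presheaf.stalkSpecializes (specializes_of_eq e) ≫ f.stalkMap (genericPoint X)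
  refine exists_deck_of_functionField hdim f hf e hdeg ?_
  letI : Algebra Y.functionField X.functionField := u.hom.toAlgebra
  show Algebra.IsSeparable Y.functionField X.functionField
  letI := (f.residueFieldMap (genericPoint X)).hom.toAlgebra
  haveI := hsep
  let e1 : Y.functionField ≃+* Y.residueField (f (genericPoint X)) :=
    ((asIso (Y.presheaf.stalkSpecializes (specializes_of_eq e))).commRingCatIsoToRingEquiv).trans
      (RingEquiv.ofBijective _ (S11584.bijective_residue e))
  let e2 : X.functionField ≃+* X.residueField (genericPoint X) :=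
    RingEquiv.ofBijective _ (S11584.bijective_residue (Y := X) rfl)
  refine Algebra.IsSeparable.of_equiv_equiv e1.symm e2.symm (RingHom.ext fun z => ?_)
  obtain ⟨a, rfl⟩ := e1.surjective z
  apply e2.injective
  show e2 (u (e1.symm (e1 a))) = e2 (e2.symm (f.residueFieldMap (genericPoint X) (e1 a)))
  rw [e1.symm_apply_apply, e2.apply_symm_apply]
  exact congr($(Scheme.residue_residueFieldMap f (genericPoint X)) _).symm

omit [IsAlgClosed k] [Smooth (X ↘ Spec (CommRingCat.of k))] in
/-- With `H¹(O) = 0` modules of opposite degrees are inverse. -/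
theorem cl_mul_eq_one (h1 : Subsingleton (Coh.HH X (Coh.structureModule X) 1))
    (h0 : Module.finrank k (Coh.HH X (Coh.structureModule X) 0) = 1) {A B : X.Modules} (hA : PicF.IsInvertible A)
    (hB : PicF.IsInvertible B) (hd : Curv2.deg k X A 1 + Curv2.deg k X B 1 = 0) :
    PicF.cl A * PicF.cl B = 1 := by
  have hM : PicF.IsInvertible (CohB1.tensorMod A B) := InvX.isInvertible_tensorMod hA hB
  have hdM : Curv2.deg k X (CohB1.tensorMod A B) 1 = 0 := by
    refine Eq.trans ?_ hd
    exact CurveRR.deg_tensor k hdim hA hB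
  have hh := CurveEmbed.h0_eq k hdim h1 hM hdM.ge
  rw [hdM, h0] at hh
  obtain ⟨s, hs⟩ := CurveRR.exists_hom_ne_zero k (P := CohB1.tensorMod A B) (by
    intro h0'
    rw [h0'] at hh
    norm_num at hh)
  haveI := (CurveDeg.deg_le_and_isIso k hdim.le CurveDeg.isInvertible_structureModule hM s hs).2
    (by rw [CurveDeg.deg_structureModule, hdM])
  rw [← H23.PicMul.cl_tensor, H23.PicMul.one_def, H23.PicMul.cl_eq_iff]
  exact ⟨(asIso s).symm⟩

variable (hg : Curv2.genus k X = 1)

include hg

/-- There is an involution exchanging two given points, with constant sums. -/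
theorem exists_involution {P Q : X} (hP : IsClosed ({P} : Set X)) (hQ : IsClosed ({Q} : Set X)) :
    ∃ σ : X ⟶ X, σ ≫ (X ↘ Spec (CommRingCat.of k)) = X ↘ Spec (CommRingCat.of k) ∧ σ ≫ σ = 𝟙 X ∧
      σ P = Q ∧ ∀ (R : X) (hR : IsClosed ({R} : Set X)) (hR' : IsClosed ({σ R} : Set X)),
        PicF.cl (ptMod R hR) * PicF.cl (ptMod (σ R) hR') = PicF.cl (ptMod P hP) * PicF.cl (ptMod Q hQ) := by
  haveI : CompactSpace X := QuasiCompact.compactSpace_of_compactSpace (X ↘ Spec (CommRingCat.of k))
  haveI : ConnectedSpace X := inferInstance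
  have h0 : Module.finrank k (Coh.HH X (Coh.structureModule X) 0) = 1 := CurveCohLib.finrank_h0_eq_one k X
  have hbij : ∀ {R : X}, IsClosed ({R} : Set X) → Function.Bijective (Curv2.resMap k X R) := fun hR =>
    ⟨(Curv2.resMap k X _).injective, CurveSection.surjective_resMap k hR⟩
  have hPi := isInvertible_pt k hdim hP
  have hQi := isInvertible_pt k hdim hQ
  have hPQ : PicF.IsInvertible (CohB1.tensorMod (ptMod P hP) (ptMod Q hQ)) := InvX.isInvertible_tensorMod hPi hQi
  obtain ⟨L, hL, hdL, ⟨eL⟩⟩ := CurveDuality.exists_inverse_deg k hdim hPQ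
  have hdPQ : Curv2.deg k X (CohB1.tensorMod (ptMod P hP) (ptMod Q hQ)) 1 = -2 := by
    have h : Curv2.deg k X (CohB1.tensorMod (ptMod P hP) (ptMod Q hQ)) 1 =
        Curv2.deg k X (ptMod P hP) 1 + Curv2.deg k X (ptMod Q hQ) 1 := CurveRR.deg_tensor k hdim hPi hQi
    rw [h, CurvePoint.deg_ptMod P hP k, CurvePoint.deg_ptMod Q hQ k]
    norm_num
  rw [hdPQ] at hdL
  have hh := HyperellLib.h0_eq_two_genus_one k hdim h0 hg hL (by omega)
  obtain ⟨f, hf, hfin, hflat, -, hη, hdeg, hsep, ⟨τ⟩⟩ :=
    HyperellLib.exists_double_cover k X hdim h0 hg.ge hL (by omega) hh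
  haveI := hfin
  haveI := hflat
  haveI : SmoothOfRelativeDimension 1 ((CohB1.ProjSpace 1 k) ↘ Spec (CommRingCat.of k)) := ExtShX.DetPn.smooth_toSpec 1 k
  haveI : Smooth ((CohB1.ProjSpace 1 k) ↘ Spec (CommRingCat.of k)) := SmoothOfRelativeDimension.smooth 1 _
  haveI : IsProper ((CohB1.ProjSpace 1 k) ↘ Spec (CommRingCat.of k)) := PnCoh.Chow.isProper_toSpec 1 k
  haveI : IsIntegral (CohB1.ProjSpace 1 k) := H23.PnChart.isIntegral_projSpace 1 k
  have hdY : topologicalKrullDim (CohB1.ProjSpace 1 k) = 1 := by simpa using S10829.result k 1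
  obtain ⟨σ, hσp, hσσ, hσf, hσ⟩ := exists_deck (k := k) hdim f hf hη hdeg hsep
  have hh1 : Subsingleton (Coh.HH (CohB1.ProjSpace 1 k) (Coh.structureModule (CohB1.ProjSpace 1 k)) 1) := by
    haveI := CurveCohLib.isNoetherian_of_proper (k := k) (X := (CohB1.ProjSpace 1 k))
    haveI := CurveCohLib.finite_HH (k := k) (QCoh.isCoh_structureModule' (X := (CohB1.ProjSpace 1 k))) 1
    exact Module.finrank_zero_iff.1 (S7810.projLine_facts k).2
  have hdt : Curv2.deg k (CohB1.ProjSpace 1 k) (P1Bundle.tw k 1) 1 = 1 := LinSys.deg_tw_one k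
  have hcl : ∀ (y : (CohB1.ProjSpace 1 k)) (hy : IsClosed ({y} : Set (CohB1.ProjSpace 1 k))),
      PicF.cl (ptMod y hy) * PicF.cl (P1Bundle.tw k 1) = 1 := fun y hy =>
    cl_mul_eq_one (k := k) hdY hh1 (S7810.projLine_facts k).1 (isInvertible_pt k hdY hy) (P1Bundle.inv_tw k 1)
      (by rw [CurvePoint.deg_ptMod y hy k, hdt]; norm_num)
  have hsum : ∀ (R : X) (hR : IsClosed ({R} : Set X)) (hR' : IsClosed ({σ R} : Set X)),
      PicF.cl (ptMod R hR) * PicF.cl (ptMod (σ R) hR') = PicF.cl (ptMod P hP) * PicF.cl (ptMod Q hQ) := fun R hR hR' => by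
    obtain ⟨hR'', hy, h⟩ := cl_pullback_pt k hdim (CohB1.ProjSpace 1 k) hdY f hf hη hdeg σ hσσ hσf hσ hR
    rw [← h]
    have h1 : PicF.cl ((Scheme.Modules.pullback f).obj (ptMod (f R) hy)) * PicF.cl L = 1 := by
      rw [← H23.PicMul.cl_eq_iff.2 ⟨τ⟩]
      have h2 := congrArg (PicF.pullCl f) (hcl (f R) hy)
      rw [H23.PicMul.pullCl_mul, H23.PicMul.pullCl_one] at h2
      exact h2
    have h2 : PicF.cl (CohB1.tensorMod (ptMod P hP) (ptMod Q hQ)) * PicF.cl L = 1 :=
      H23.PicMul.cl_eq_iff.2 (⟨eL⟩ : Nonempty (CohB1.tensorMod (CohB1.tensorMod (ptMod P hP) (ptMod Q hQ)) L ≅ Coh.structureModule X))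
    exact (H23.PicMul.isUnit_cl hL).mul_right_cancel (h1.trans h2.symm)
  refine ⟨σ, hσp, hσσ, ?_, hsum⟩
  haveI : IsIso σ := ⟨σ, hσσ, hσσ⟩
  have hPc : IsClosed ({σ P} : Set X) := by
    have := σ.homeomorph.isClosedMap _ hP
    rwa [Set.image_singleton] at this
  obtain ⟨e⟩ := H23.PicMul.cl_eq_iff.1 ((H23.PicMul.isUnit_cl hPi).mul_left_cancel (hsum P hP hPc))
  exact eq_of_iso k hdim h0 hg hPc hQ (hbij hPc) e.symm

end Groth.Agent.GenusOnePt
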