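import Groth.Agent.GenusOnePt.Invol
import Groth.Agent.CurveLuroth.Line
import Groth.Agent.CurveModel.Rational
import Groth.Agent.H23.CoverPush

/-!
Double covers of the line by a curve of genus one differ by automorphisms.
-/

set_option autoImplicit false
set_option linter.style.haveILetI false
set_option linter.unusedSectionVars false
set_option backward.isDefEq.respectTransparency false
set_option backward.isDefEq.respectTransparency.types false
set_option maxHeartbeats 800000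

universe u

open CategoryTheory CategoryTheory.Limits AlgebraicGeometry TopologicalSpace Opposite

noncomputable section

attribute [local instance] Curv2.resAlgebra

namespace Groth.Agent.GenusOnePt

open Groth.Agent Groth.Agent.CurveBundle Groth.Agent.CurvePoint
open scoped Groth.Agent.H23.PicMul

variable {k : Type u} [Field k] [IsAlgClosed k] {X : Scheme.{u}} [X.Over (Spec (CommRingCat.of k))] [IsIntegral X]
  [IsProper (X ↘ Spec (CommRingCat.of k))] [Smooth (X ↘ Spec (CommRingCat.of k))]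
  (hdim : topologicalKrullDim X = 1)
  {Y : Scheme.{u}} [Y.Over (Spec (CommRingCat.of k))] [IsIntegral Y]
  [IsProper (Y ↘ Spec (CommRingCat.of k))] [Smooth (Y ↘ Spec (CommRingCat.of k))]
  (hdY : topologicalKrullDim Y = 1)
  (hY1 : Subsingleton (Coh.HH Y (Coh.structureModule Y) 1))
  (hY0 : Module.finrank k (Coh.HH Y (Coh.structureModule Y) 0) = 1)

include hdim hdY hY1 hY0

/-- The sums over the fibres of a double cover of a rational curve are constant. -/
theorem deck_sum (f : X ⟶ Y) [IsFinite f]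
    (hf : f ≫ (Y ↘ Spec (CommRingCat.of k)) = X ↘ Spec (CommRingCat.of k))
    (e : f (genericPoint X) = genericPoint Y) (hdeg : f.residueDegree (genericPoint X) = 2)
    (σ : X ⟶ X) (hσσ : σ ≫ σ = 𝟙 X) (hσf : σ ≫ f = f) (hσ : σ ≠ 𝟙 X) {R R₀ : X} (hR : IsClosed ({R} : Set X))
    (hR₀ : IsClosed ({R₀} : Set X)) (hR' : IsClosed ({σ R} : Set X)) (hR₀' : IsClosed ({σ R₀} : Set X)) :
    PicF.cl (ptMod R hR) * PicF.cl (ptMod (σ R) hR') = PicF.cl (ptMod R₀ hR₀) * PicF.cl (ptMod (σ R₀) hR₀') := by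
  obtain ⟨_, hy, h⟩ := cl_pullback_pt k hdim Y hdY f hf e hdeg σ hσσ hσf hσ hR
  obtain ⟨_, hy₀, h₀⟩ := cl_pullback_pt k hdim Y hdY f hf e hdeg σ hσσ hσf hσ hR₀
  rw [← h, ← h₀]
  have hyi := isInvertible_pt k hdY hy
  obtain ⟨D, hD, hdD, -⟩ := CurveDuality.exists_inverse_deg k hdY hyi
  rw [CurvePoint.deg_ptMod (f R) hy k] at hdD
  have h1 := congrArg (PicF.pullCl f) (cl_mul_eq_one (k := k) hdY hY1 hY0 hyi hD
    (by rw [CurvePoint.deg_ptMod (f R) hy k, hdD]; norm_num))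
  have h2 := congrArg (PicF.pullCl f) (cl_mul_eq_one (k := k) hdY hY1 hY0 (isInvertible_pt k hdY hy₀) hD
    (by rw [CurvePoint.deg_ptMod (f R₀) hy₀ k, hdD]; norm_num))
  rw [H23.PicMul.pullCl_mul, H23.PicMul.pullCl_one] at h1 h2
  exact (H23.PicMul.isUnit_cl (PicClLib.isInvertible_pullback f hD)).mul_right_cancel (h1.trans h2.symm)

omit hY1 hY0 in
/-- The function field of the base is the fixed field of the deck involution. -/
theorem range_eq_fixed (f : X ⟶ Y) [IsFinite f]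
    (hf : f ≫ (Y ↘ Spec (CommRingCat.of k)) = X ↘ Spec (CommRingCat.of k))
    (e : f (genericPoint X) = genericPoint Y) (hdeg : f.residueDegree (genericPoint X) = 2)
    (σ : X ⟶ X) (hη : σ (genericPoint X) = genericPoint X) (hσf : σ ≫ f = f) (hσ : σ ≠ 𝟙 X) (a : X.functionField) :
    a ∈ Set.range (Y.presheaf.stalkSpecializes (specializes_of_eq e) ≫ f.stalkMap (genericPoint X)).hom ↔
      (HypEll.endo σ hη).hom a = a := by
  haveI : X.IsSeparated := ⟨by rw [← terminal.comp_from (X ↘ Spec (CommRingCat.of k))]; infer_instance⟩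
  let u := Y.presheaf.stalkSpecializes (specializes_of_eq e) ≫ f.stalkMap (genericPoint X)
  have hu : u ≫ HypEll.endo σ hη = u := by
    show (_ ≫ f.stalkMap (genericPoint X)) ≫ HypEll.endo σ hη = _
    rw [Category.assoc, HypEll.endo_comp_stalkMap σ hη f hσf]
  have hrk := HypEll.finrank_functionField X Y f e
  rw [hdeg] at hrk
  letI : Algebra Y.functionField X.functionField := u.hom.toAlgebra
  let sA : X.functionField →ₐ[Y.functionField] X.functionField :=
    { (HypEll.endo σ hη).hom with commutes' := fun b => ConcreteCategory.congr_hom hu b }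
  let F : IntermediateField Y.functionField X.functionField :=
    { carrier := {a | sA a = a}
      mul_mem' := fun {a b} ha hb => by simp only [Set.mem_setOf_eq] at *; rw [map_mul, ha, hb]
      add_mem' := fun {a b} ha hb => by simp only [Set.mem_setOf_eq] at *; rw [map_add, ha, hb]
      algebraMap_mem' := fun b => sA.commutes b
      inv_mem' := fun a ha => by simp only [Set.mem_setOf_eq] at *; rw [map_inv₀, ha] }
  have hF : F = ⊥ := by
    refine ((IntermediateField.isSimpleOrder_of_finrank_prime Y.functionField X.functionField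
      (hrk ▸ Nat.prime_two)).eq_bot_or_eq_top F).resolve_right fun h => hσ ?_
    refine HypEll.eq_id_of_endo σ hη (CommRingCat.hom_ext (RingHom.ext fun z => ?_))
    exact (show z ∈ F from h ▸ IntermediateField.mem_top)
  constructor
  · rintro ⟨b, rfl⟩
    exact sA.commutes b
  · intro ha
    have h : a ∈ F := ha
    rw [hF, IntermediateField.mem_bot] at h
    exact h

/-- Two double covers of a rational curve by a curve of genus one differ by automorphisms. -/
theorem exists_iso_maps (hg : Curv2.genus k X = 1) (h2 : (2 : k) ≠ 0) (f₁ f₂ : X ⟶ Y) [IsFinite f₁] [IsFinite f₂]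
    (hf₁ : f₁ ≫ (Y ↘ Spec (CommRingCat.of k)) = X ↘ Spec (CommRingCat.of k))
    (hf₂ : f₂ ≫ (Y ↘ Spec (CommRingCat.of k)) = X ↘ Spec (CommRingCat.of k))
    (e₁ : f₁ (genericPoint X) = genericPoint Y) (e₂ : f₂ (genericPoint X) = genericPoint Y)
    (hd₁ : f₁.residueDegree (genericPoint X) = 2) (hd₂ : f₂.residueDegree (genericPoint X) = 2) :
    ∃ (σ : X ≅ X) (τ : Y ≅ Y), σ.hom ≫ (X ↘ Spec (CommRingCat.of k)) = X ↘ Spec (CommRingCat.of k) ∧
      τ.hom ≫ (Y ↘ Spec (CommRingCat.of k)) = Y ↘ Spec (CommRingCat.of k) ∧ σ.hom ≫ f₂ = f₁ ≫ τ.hom := by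
  haveI : SmoothOfRelativeDimension 1 (X ↘ Spec (CommRingCat.of k)) := HypEll.smooth_one _ hdim
  haveI : SmoothOfRelativeDimension 1 (Y ↘ Spec (CommRingCat.of k)) := HypEll.smooth_one _ hdY
  haveI : X.IsSeparated := ⟨by rw [← terminal.comp_from (X ↘ Spec (CommRingCat.of k))]; infer_instance⟩
  haveI : Y.IsSeparated := ⟨by rw [← terminal.comp_from (Y ↘ Spec (CommRingCat.of k))]; infer_instance⟩
  haveI : CompactSpace X := QuasiCompact.compactSpace_of_compactSpace (X ↘ Spec (CommRingCat.of k))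
  haveI : ConnectedSpace X := inferInstance
  haveI := CurveCohLib.isNoetherian_of_proper (k := k) (X := Y)
  have h0 : Module.finrank k (Coh.HH X (Coh.structureModule X) 0) = 1 := CurveCohLib.finrank_h0_eq_one k X
  have hgY : Curv2.genus k Y = 0 := Module.finrank_zero_of_subsingleton
  have hclosed : ∀ (s : X ⟶ X), s ≫ s = 𝟙 X → ∀ {R : X}, IsClosed ({R} : Set X) → IsClosed ({s R} : Set X) :=
    fun s hs R hR => by
      haveI : IsIso s := ⟨s, hs, hs⟩
      have := s.homeomorph.isClosedMap _ hR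
      rwa [Set.image_singleton] at this
  have hdata : ∀ (f : X ⟶ Y) [IsFinite f] (hf : f ≫ (Y ↘ Spec (CommRingCat.of k)) = X ↘ Spec (CommRingCat.of k))
      (e : f (genericPoint X) = genericPoint Y) (hd : f.residueDegree (genericPoint X) = 2),
      ∃ (s : X ⟶ X) (R : X), s ≫ (X ↘ Spec (CommRingCat.of k)) = X ↘ Spec (CommRingCat.of k) ∧ s ≫ s = 𝟙 X ∧
        s ≫ f = f ∧ s ≠ 𝟙 X ∧ IsClosed ({R} : Set X) ∧ s R = R := by
    intro f _ hf e hd
    obtain ⟨s, h1, h3, h4, h5⟩ := exists_deck_of_functionField (k := k) hdim f hf e hd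
      (HypEll.isSeparable_of_two X Y f e h2 hd)
    obtain ⟨-, h⟩ := HypEll.genus_eq_of_invol X hdim Y hdY f hf e h2 hd s h3 h4 h5
    rw [hg, hgY] at h
    push_cast at h
    have : 0 < Nat.card {x : X // IsClosed ({x} : Set X) ∧ s x = x} := by omega
    obtain ⟨⟨R, hR, hfix⟩⟩ := (Nat.card_pos_iff.1 this).1
    exact ⟨s, R, h1, h3, h4, h5, hR, hfix⟩
  obtain ⟨s₁, R₁, hs₁p, hs₁s, hs₁f, hs₁, hR₁, hfix₁⟩ := hdata f₁ hf₁ e₁ hd₁
  obtain ⟨s₂, R₂, hs₂p, hs₂s, hs₂f, hs₂, hR₂, hfix₂⟩ := hdata f₂ hf₂ e₂ hd₂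
  obtain ⟨σ, hσp, hσσ, hσR, -⟩ := exists_involution (k := k) hdim hg hR₁ hR₂
  haveI : IsIso σ := ⟨σ, hσσ, hσσ⟩
  haveI : IsFinite (σ ≫ f₂) := inferInstance
  have hη : σ (genericPoint X) = genericPoint X := genericPoint_eq_of_isOpenImmersion σ
  have e₂' : (σ ≫ f₂) (genericPoint X) = genericPoint Y := by rw [Scheme.Hom.comp_apply, hη, e₂]
  have hf₂' : (σ ≫ f₂) ≫ (Y ↘ Spec (CommRingCat.of k)) = X ↘ Spec (CommRingCat.of k) := by
    rw [Category.assoc, hf₂, hσp]
  have hd₂' : (σ ≫ f₂).residueDegree (genericPoint X) = 2 := by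
    haveI : Flat f₂ := CurveRamAC.flat X hdim Y hdY f₂ hf₂ e₂
    rw [← HypEll.finrank_eq X hdim Y hdY (σ ≫ f₂) hf₂' e₂' (genericPoint Y),
      Scheme.Hom.finrank_comp_left_of_isIso, HypEll.finrank_eq X hdim Y hdY f₂ hf₂ e₂, hd₂]
  let t := σ ≫ s₂ ≫ σ
  have htt : t ≫ t = 𝟙 X := by simp only [t, Category.assoc, reassoc_of% hσσ, reassoc_of% hs₂s, hσσ]
  have htf : t ≫ σ ≫ f₂ = σ ≫ f₂ := by simp only [t, Category.assoc, reassoc_of% hσσ, hs₂f]
  have htp : t ≫ (X ↘ Spec (CommRingCat.of k)) = X ↘ Spec (CommRingCat.of k) := by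
    simp only [t, Category.assoc, hσp, hs₂p]
  have ht1 : t ≠ 𝟙 X := fun h => hs₂ <| by
    have := congrArg (fun m => σ ≫ m ≫ σ) h
    simpa only [t, Category.assoc, hσσ, reassoc_of% hσσ, Category.comp_id, Category.id_comp] using this
  have htfix : t R₁ = R₁ := by
    have h' : σ R₂ = R₁ := by rw [← hσR, ← Scheme.Hom.comp_apply, hσσ]; rfl
    show (σ ≫ s₂ ≫ σ) R₁ = R₁
    rw [Scheme.Hom.comp_apply, Scheme.Hom.comp_apply, hσR, hfix₂]
    exact h'
  have hts : t = s₁ := by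
    haveI : LocallyOfFiniteType (t ≫ X ↘ Spec (CommRingCat.of k)) := by rw [htp]; infer_instance
    refine ext_of_apply_eq (X ↘ Spec (CommRingCat.of k)) Set.univ isOpen_univ.isLocallyClosed dense_univ ?_
      (htp.trans hs₁p.symm)
    intro R _ hR
    have ha := hclosed t htt hR
    have hb := hclosed s₁ hs₁s hR
    have h1 := deck_sum hdim hdY hY1 hY0 (σ ≫ f₂) hf₂' e₂' hd₂' t htt htf ht1 hR hR₁ ha (hclosed t htt hR₁)
    have h3 := deck_sum hdim hdY hY1 hY0 f₁ hf₁ e₁ hd₁ s₁ hs₁s hs₁f hs₁ hR hR₁ hb (hclosed s₁ hs₁s hR₁)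
    have hcong : ∀ (Z : X) (hZ : IsClosed ({Z} : Set X)), Z = R₁ → PicF.cl (ptMod Z hZ) = PicF.cl (ptMod R₁ hR₁) :=
      fun Z hZ h => by subst h; rfl
    rw [hcong _ _ htfix] at h1
    rw [hcong _ _ hfix₁] at h3
    obtain ⟨e⟩ := H23.PicMul.cl_eq_iff.1
      ((H23.PicMul.isUnit_cl (isInvertible_pt k hdim hR)).mul_left_cancel (h1.trans h3.symm))
    exact eq_of_iso k hdim h0 hg ha hb ⟨(Curv2.resMap k X _).injective, CurveSection.surjective_resMap k ha⟩ e.symm
  haveI : IsIso t := ⟨t, htt, htt⟩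
  haveI : IsIso s₁ := ⟨s₁, hs₁s, hs₁s⟩
  let u₁ := Y.presheaf.stalkSpecializes (specializes_of_eq e₁) ≫ f₁.stalkMap (genericPoint X)
  let u₂ := Y.presheaf.stalkSpecializes (specializes_of_eq e₂') ≫ (σ ≫ f₂).stalkMap (genericPoint X)
  have hts' : s₁ ≫ σ ≫ f₂ = σ ≫ f₂ := by rw [← hts]; exact htf
  have hηs : s₁ (genericPoint X) = genericPoint X := genericPoint_eq_of_isOpenImmersion s₁
  have hr : u₁.hom.fieldRange = u₂.hom.fieldRange := SetLike.ext fun a =>
    (range_eq_fixed hdim hdY f₁ hf₁ e₁ hd₁ s₁ hηs hs₁f hs₁ a).trans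
      (range_eq_fixed hdim hdY (σ ≫ f₂) hf₂' e₂' hd₂' s₁ hηs hts' hs₁ a).symm
  let θ : Y.functionField ≃+* Y.functionField :=
    (RingEquiv.ofBijective u₂.hom.rangeRestrictField
      ⟨u₂.hom.rangeRestrictField.injective, fun ⟨_, b, hb⟩ => ⟨b, Subtype.ext hb⟩⟩).trans
      ((RingEquiv.subfieldCongr hr.symm).trans (RingEquiv.ofBijective u₁.hom.rangeRestrictField
        ⟨u₁.hom.rangeRestrictField.injective, fun ⟨_, b, hb⟩ => ⟨b, Subtype.ext hb⟩⟩).symm)
  have hθ : θ.toCommRingCatIso.hom ≫ u₁ = u₂ := CommRingCat.hom_ext (RingHom.ext fun b =>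
    congrArg Subtype.val ((RingEquiv.ofBijective u₁.hom.rangeRestrictField
      ⟨u₁.hom.rangeRestrictField.injective, fun ⟨_, b, hb⟩ => ⟨b, Subtype.ext hb⟩⟩).apply_symm_apply _))
  have hspec₁ : Spec.map u₁ ≫ Y.fromSpecStalk (genericPoint Y) = X.fromSpecStalk (genericPoint X) ≫ f₁ := by
    rw [Spec.map_comp, Category.assoc, Scheme.SpecMap_stalkSpecializes_fromSpecStalk,
      Scheme.SpecMap_stalkMap_fromSpecStalk]
  have hspec₂ : Spec.map u₂ ≫ Y.fromSpecStalk (genericPoint Y) = X.fromSpecStalk (genericPoint X) ≫ σ ≫ f₂ := by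
    rw [Spec.map_comp, Category.assoc, Scheme.SpecMap_stalkSpecializes_fromSpecStalk,
      Scheme.SpecMap_stalkMap_fromSpecStalk]
  have huk : ∀ (f : X ⟶ Y) (u : Y.functionField ⟶ X.functionField),
      Spec.map u ≫ Y.fromSpecStalk (genericPoint Y) = X.fromSpecStalk (genericPoint X) ≫ f →
      f ≫ (Y ↘ Spec (CommRingCat.of k)) = X ↘ Spec (CommRingCat.of k) →
      CurveLuroth.ffC (Y ↘ Spec (CommRingCat.of k)) ≫ u = CurveLuroth.ffC (X ↘ Spec (CommRingCat.of k)) := fun f u hu hf => by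
    refine Spec.map_injective ?_
    rw [Spec.map_comp, CurveLuroth.spec_ffC, ← Category.assoc, hu, CurveLuroth.spec_ffC, Category.assoc, hf]
  have hθk : CurveLuroth.ffC (Y ↘ Spec (CommRingCat.of k)) ≫ θ.toCommRingCatIso.hom =
      CurveLuroth.ffC (Y ↘ Spec (CommRingCat.of k)) := by
    haveI : Mono u₁ := ConcreteCategory.mono_of_injective _ u₁.hom.injective
    rw [← cancel_mono u₁, Category.assoc, hθ, huk _ _ hspec₁ hf₁, huk _ _ hspec₂ hf₂']
  have hvY : ∀ y : Y, ValuationRing (Y.presheaf.stalk y) := CurveGenusMono.valuationRing_of_regular k Y hdY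
    fun z => GrpSchLib.isRegularLocalRing_stalk_of_smooth (Y ↘ Spec (CommRingCat.of k)) z
  obtain ⟨τ, eτ, hτp, hτθ⟩ := CurveGenusMono.exists_morphism_of_functionField
    (Y ↘ Spec (CommRingCat.of k)) (Y ↘ Spec (CommRingCat.of k)) hvY θ.toCommRingCatIso.hom hθk
  obtain ⟨τ', eτ', hτp', hτθ'⟩ := CurveGenusMono.exists_morphism_of_functionField
    (Y ↘ Spec (CommRingCat.of k)) (Y ↘ Spec (CommRingCat.of k)) hvY θ.toCommRingCatIso.inv
    (by rw [Iso.comp_inv_eq, hθk])
  have hgen : ∀ (m : Y ⟶ Y) (em : m (genericPoint Y) = genericPoint Y),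
      Y.fromSpecStalk (genericPoint Y) ≫ m = Spec.map (Y.presheaf.stalkSpecializes (specializes_of_eq em) ≫
        m.stalkMap (genericPoint Y)) ≫ Y.fromSpecStalk (genericPoint Y) := fun m em => by
    rw [Spec.map_comp, Category.assoc, Scheme.SpecMap_stalkSpecializes_fromSpecStalk,
      Scheme.SpecMap_stalkMap_fromSpecStalk]
  have h1 := hgen τ eτ
  have h1' := hgen τ' eτ'
  rw [hτθ] at h1
  rw [hτθ'] at h1'
  haveI := H23.RatExtend.isDominant_fromSpecStalk (X := Y)
  haveI := H23.RatExtend.isDominant_fromSpecStalk (X := X)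
  refine ⟨⟨σ, σ, hσσ, hσσ⟩, ⟨τ, τ', ?_, ?_⟩, hσp, hτp, ?_⟩
  · refine ext_of_isDominant (Y.fromSpecStalk (genericPoint Y)) ?_
    rw [reassoc_of% h1, h1', ← Spec.map_comp_assoc, Iso.inv_hom_id, Spec.map_id, Category.id_comp, Category.comp_id]
  · refine ext_of_isDominant (Y.fromSpecStalk (genericPoint Y)) ?_
    rw [reassoc_of% h1', h1, ← Spec.map_comp_assoc, Iso.hom_inv_id, Spec.map_id, Category.id_comp, Category.comp_id]
  · refine ext_of_isDominant (X.fromSpecStalk (genericPoint X)) ?_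
    show X.fromSpecStalk (genericPoint X) ≫ σ ≫ f₂ = X.fromSpecStalk (genericPoint X) ≫ f₁ ≫ τ
    rw [← hspec₂, ← reassoc_of% hspec₁, h1, ← Spec.map_comp_assoc, hθ]

end Groth.Agent.GenusOnePt
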