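import Groth.Agent.GenusOnePt.Basic
import Groth.Agent.H23.InvStalk
import Groth.Agent.CurveFinMap.Degree
import Groth.Agent.CurveAlgEquiv.PullIdeal
import Groth.Agent.BlowUpLib.Local
import Groth.Agent.HypEll.Basic

/-!
The ideal of a fibre of a double cover is the product of the ideals of its points.
-/

set_option autoImplicit false
set_option linter.style.haveILetI false
set_option linter.unusedSectionVars false
set_option backward.isDefEq.respectTransparency false
set_option backward.isDefEq.respectTransparency.types false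

universe u

open CategoryTheory CategoryTheory.Limits AlgebraicGeometry TopologicalSpace Opposite

noncomputable section

attribute [local instance] Curv2.resAlgebra

namespace Groth.Agent.GenusOnePt

open Groth.Agent Groth.Agent.CurveBundle Groth.Agent.CurvePoint
open scoped Groth.Agent.H23.PicMul

/-- Stalkwise surjectivity of a map of modules. -/
def Surj {X : Scheme.{u}} {A B : X.Modules} (φ : A ⟶ B) (x : X) : Prop :=
  Function.Surjective ((DerSch.stalkFunctor X x).map φ)

theorem surj_comp_iso {X : Scheme.{u}} {A B C : X.Modules} (φ : A ⟶ B) (e : B ≅ C) (x : X) :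
    Surj (φ ≫ e.hom) x ↔ Surj φ x := by
  unfold Surj
  rw [Functor.map_comp]
  exact Function.Surjective.of_comp_iff'
    (ConcreteCategory.bijective_of_isIso ((DerSch.stalkFunctor X x).mapIso e).hom) _

theorem surj_iso_comp {X : Scheme.{u}} {A B C : X.Modules} (e : A ≅ B) (φ : B ⟶ C) (x : X) :
    Surj (e.hom ≫ φ) x ↔ Surj φ x := by
  unfold Surj
  rw [Functor.map_comp]
  exact Function.Surjective.of_comp_iff _
    (ConcreteCategory.bijective_of_isIso ((DerSch.stalkFunctor X x).mapIso e).hom).surjective

/-- The inclusion of an ideal is surjective exactly away from its zeros. -/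
theorem surj_idealModι_iff {X : Scheme.{u}} (J : X.IdealSheafData) (x : X) :
    Surj (ClSub.idealModι J) x ↔ x ∉ J.support := by
  haveI := CurvePoint.epi_toSubscheme J
  let F := DerSch.stalkFunctor X x
  have hS : (ShortComplex.mk (ClSub.idealModι J) (ClSub.toSubscheme J) (kernel.condition _)).ShortExact :=
    CurveSlope.shortExact_kernel_of_epi _
  have hq : Function.Surjective (F.map (ClSub.toSubscheme J)) := (ModuleCat.epi_iff_surjective _).1 inferInstance
  constructor
  · intro hs hx
    refine CurveCohLib.GlobGen.nontrivial_stalk_quotMod J hx ?_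
    have h0 : F.map (ClSub.idealModι J) ≫ F.map (ClSub.toSubscheme J) = 0 := by
      rw [← F.map_comp, show ClSub.idealModι J ≫ ClSub.toSubscheme J = 0 from kernel.condition _, Functor.map_zero]
    refine subsingleton_of_forall_eq 0 fun q => ?_
    obtain ⟨a, rfl⟩ := hq q
    obtain ⟨b, rfl⟩ := hs a
    exact ConcreteCategory.congr_hom h0 b
  · intro hx
    have hex := (hS.map_of_exact F).exact
    rw [ShortComplex.moduleCat_exact_iff] at hex
    intro a
    haveI : Subsingleton ((ClSub.quotMod J).presheaf.stalk x) := ParShLib.subsingleton_stalk_quotMod J hx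
    exact hex a (Subsingleton.elim (α := (ClSub.quotMod J).presheaf.stalk x) _ _)

variable {X : Scheme.{u}} (k : Type u) [Field k] [X.Over (Spec (CommRingCat.of k))] [IsIntegral X]
  [IsProper (X ↘ Spec (CommRingCat.of k))] [Smooth (X ↘ Spec (CommRingCat.of k))]
  (hdim : topologicalKrullDim X = 1)

include k hdim

/-- A non-zero functional on a module of degree minus one is the ideal of a point. -/
theorem exists_mono_point {N : X.Modules} (hN : PicF.IsInvertible N) (hdN : Curv2.deg k X N 1 = -1)
    (u : N ⟶ Coh.structureModule X) (hu : u ≠ 0) :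
    ∃ (P : X) (hP : IsClosed ({P} : Set X)) (v : N ≅ ptMod P hP), v.hom ≫ ClSub.idealModι (ptIdeal P hP) = u := by
  haveI := CurveCohLib.isNoetherian_of_proper (k := k) (X := X)
  haveI : Mono u := InvEnd.mono_of_ne_zero hN CurveDeg.isInvertible_structureModule u hu
  obtain ⟨Z, e, he⟩ := SurfExtn.exists_ideal u (ProjUPX.isQCoh_of_isInvertible hN)
  have hZ : (Z.support : Set X).Nonempty := by
    rw [Set.nonempty_iff_ne_empty]
    intro hemp
    have hq : IsZero (ClSub.quotMod Z) := CurveCohLib.isZero_of_subsingleton_stalks fun x => by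
      refine ParShLib.subsingleton_stalk_quotMod Z fun hx => ?_
      have : x ∈ (Z.support : Set X) := hx
      rw [hemp] at this
      exact this
    haveI : IsIso (ClSub.idealModι Z) := kernel.ι_of_zero (hq.eq_of_tgt _ _)
    have h1 := CurveRR.deg_congr k (e ≪≫ asIso (ClSub.idealModι Z)) 1
    rw [CurveDeg.deg_structureModule] at h1
    omega
  haveI : JacobsonSpace X := LocallyOfFiniteType.jacobsonSpace (X ↘ Spec (CommRingCat.of k))
  obtain ⟨P, hPZ, hP⟩ := nonempty_inter_closedPoints (X := X) hZ Z.support.isClosed.isLocallyClosed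
  have hle : Z ≤ ptIdeal P hP :=
    Scheme.IdealSheafData.le_support_iff_le_vanishingIdeal.1 (by
      intro z hz
      obtain rfl : z = P := hz
      exact hPZ)
  let w : ClSub.idealMod Z ⟶ ptMod P hP := kernel.lift _ (ClSub.idealModι Z) (comp_toSubscheme_of_le hle)
  have hwu : (e.hom ≫ w) ≫ ClSub.idealModι (ptIdeal P hP) = u := by
    rw [Category.assoc, ← he]
    exact congrArg _ (kernel.lift_ι _ _ _)
  have hw : e.hom ≫ w ≠ 0 := fun h => hu (by rw [← hwu, h, zero_comp])
  obtain ⟨hdeg, hiso⟩ := CurveDeg.deg_le_and_isIso k hdim.le hN (isInvertible_pt k hdim hP) _ hw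
  rw [CurveEmbed.deg_point k hP, hdN] at hdeg hiso
  haveI : Module.Finite k (X.residueField P) := finite_residue k hP
  have hpos : 0 < Module.finrank k (X.residueField P) := Module.finrank_pos
  haveI := hiso (by omega)
  exact ⟨P, hP, asIso (e.hom ≫ w), hwu⟩

variable [IsAlgClosed k]

/-- An invertible ideal of degree two is the product of the ideals of its points. -/
theorem cl_eq_mul {J : X.IdealSheafData} (hJ : PicF.IsInvertible (ClSub.idealMod J))
    (hdJ : Curv2.deg k X (ClSub.idealMod J) 1 = -2) {R R' : X} (hR : IsClosed ({R} : Set X))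
    (hR' : IsClosed ({R'} : Set X)) (hsupp : (J.support : Set X) = {R, R'}) :
    PicF.cl (ClSub.idealMod J) = PicF.cl (ptMod R hR) * PicF.cl (ptMod R' hR') := by
  haveI := CurveCohLib.isNoetherian_of_proper (k := k) (X := X)
  have hRi := isInvertible_pt k hdim hR
  obtain ⟨D, hD, hdD, ⟨eD⟩⟩ := CurveDuality.exists_inverse_deg k hdim hRi
  rw [CurvePoint.deg_ptMod R hR k] at hdD
  obtain ⟨c⟩ := H23.PicMul.comm D (ptMod R hR)
  let eD' : CohB1.tensorMod D (ptMod R hR) ≅ Coh.structureModule X := c ≪≫ eD
  have hle : J ≤ ptIdeal R hR :=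
    Scheme.IdealSheafData.le_support_iff_le_vanishingIdeal.1 (by
      intro z hz
      obtain rfl : z = R := hz
      show z ∈ (J.support : Set X)
      rw [hsupp]
      exact Set.mem_insert _ _)
  let A : ClSub.idealMod J ⟶ ptMod R hR := kernel.lift _ (ClSub.idealModι J) (comp_toSubscheme_of_le hle)
  have hA : A ≫ ClSub.idealModι (ptIdeal R hR) = ClSub.idealModι J := kernel.lift_ι _ _ _
  let N : X.Modules := CohB1.tensorMod D (ClSub.idealMod J)
  let u : N ⟶ Coh.structureModule X := (DCoh.tensorBi.obj D).map A ≫ eD'.hom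
  have hN : PicF.IsInvertible N := InvX.isInvertible_tensorMod hD hJ
  have hdN : Curv2.deg k X N 1 = -1 := by
    have h : Curv2.deg k X N 1 = Curv2.deg k X D 1 + Curv2.deg k X (ClSub.idealMod J) 1 :=
      CurveRR.deg_tensor k hdim hD hJ
    rw [hdD, hdJ] at h
    omega
  have key : ∀ T : X, T ≠ R → (Surj u T ↔ T ∉ J.support) := fun T hT => by
    obtain ⟨eT⟩ := H23.InvStalk.exists_stalk_equiv hD T
    refine (surj_comp_iso _ _ _).trans ((H23.InvStalk.stalk_tensor_map_surjective_iff A T eT).trans ?_)
    rw [← surj_idealModι_iff, ← hA]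
    unfold Surj
    rw [Functor.map_comp]
    have hinj : Function.Injective ((DerSch.stalkFunctor X T).map (ClSub.idealModι (ptIdeal R hR))) :=
      (ModuleCat.mono_iff_injective _).1
        ((shortExact_pt R hR).map_of_exact (DerSch.stalkFunctor X T)).mono_f
    have hsurj : Surj (ClSub.idealModι (ptIdeal R hR)) T :=
      (surj_idealModι_iff _ T).2 fun h => hT h
    exact ⟨fun h => hsurj.comp h, fun h => (Function.Surjective.of_comp_iff' ⟨hinj, hsurj⟩ _).1 h⟩
  have hu : u ≠ 0 := fun hu0 => by
    have hgR : genericPoint X ≠ R := fun h => CurveEmbed.genericPoint_not_closed hdim (h ▸ hR)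
    have hgJ : genericPoint X ∉ J.support := fun h => by
      have h' : genericPoint X ∈ (J.support : Set X) := h
      rw [hsupp] at h'
      rcases h' with h' | h'
      · exact hgR h'
      · exact CurveEmbed.genericPoint_not_closed hdim ((Set.mem_singleton_iff.1 h') ▸ hR')
    have hs := (key _ hgR).2 hgJ
    rw [hu0, Surj, Functor.map_zero] at hs
    obtain ⟨e1⟩ := H23.InvStalk.exists_stalk_equiv (InvX.isInvertible_structureModule (X := X)) (genericPoint X)
    obtain ⟨b, hb⟩ := hs (e1.symm 1)
    have h01 : (1 : X.presheaf.stalk (genericPoint X)) = 0 := by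
      rw [← e1.apply_symm_apply 1, ← hb]
      exact map_zero e1
    exact one_ne_zero h01
  obtain ⟨S, hS, v, hv⟩ := exists_mono_point k hdim hN hdN u hu
  have key' : ∀ T : X, T ≠ R → (T ∈ (J.support : Set X) ↔ T = S) := fun T hT => by
    have h := key T hT
    rw [← hv, surj_iso_comp, surj_idealModι_iff] at h
    show T ∈ J.support ↔ _
    rw [← not_iff_not, ← h]
    rfl
  obtain rfl : S = R' := by
    by_cases hRR : R' = R
    · by_contra hne
      have hSR : S ≠ R := hRR ▸ hne
      have h := (key' S hSR).2 rfl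
      rw [hsupp, hRR] at h
      simp [hSR] at h
    · have h := (key' R' hRR).1 (by rw [hsupp]; exact Set.mem_insert_of_mem _ rfl)
      exact h.symm
  have hone : PicF.cl (ptMod R hR) * PicF.cl D = 1 :=
    H23.PicMul.cl_eq_iff.2 (⟨eD⟩ : Nonempty (CohB1.tensorMod (ptMod R hR) D ≅ Coh.structureModule X))
  rw [← H23.PicMul.cl_eq_iff.2 ⟨v⟩, H23.PicMul.cl_tensor, ← mul_assoc, hone, one_mul]

/-- The pullback of a point along a double cover with deck involution. -/
theorem cl_pullback_pt (Y : Scheme.{u}) [Y.Over (Spec (CommRingCat.of k))] [IsIntegral Y]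
    [IsProper (Y ↘ Spec (CommRingCat.of k))] [Smooth (Y ↘ Spec (CommRingCat.of k))]
    (hdY : topologicalKrullDim Y = 1) (f : X ⟶ Y) [IsFinite f]
    (hf : f ≫ (Y ↘ Spec (CommRingCat.of k)) = X ↘ Spec (CommRingCat.of k))
    (e : f (genericPoint X) = genericPoint Y) (hdeg : f.residueDegree (genericPoint X) = 2)
    (σ : X ⟶ X) (hσσ : σ ≫ σ = 𝟙 X) (hσf : σ ≫ f = f) (hσ : σ ≠ 𝟙 X) {R : X} (hR : IsClosed ({R} : Set X)) :
    ∃ (hR' : IsClosed ({σ R} : Set X)) (hy : IsClosed ({f R} : Set Y)),
      PicF.cl ((Scheme.Modules.pullback f).obj (ptMod (f R) hy)) = PicF.cl (ptMod R hR) * PicF.cl (ptMod (σ R) hR') := by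
  haveI : SmoothOfRelativeDimension 1 (X ↘ Spec (CommRingCat.of k)) := HypEll.smooth_one _ hdim
  haveI : SmoothOfRelativeDimension 1 (Y ↘ Spec (CommRingCat.of k)) := HypEll.smooth_one _ hdY
  haveI : IsIso σ := ⟨σ, hσσ, hσσ⟩
  haveI : Flat f := CurveRamAC.flat X hdim Y hdY f hf e
  have hR' : IsClosed ({σ R} : Set X) := by
    have := σ.homeomorph.isClosedMap _ hR
    rwa [Set.image_singleton] at this
  have hy := CurveRamAC.isClosed_image X Y hdY f e hR
  refine ⟨hR', hy, ?_⟩
  have hσσ' : ∀ z, σ (σ z) = z := fun z => by rw [← Scheme.Hom.comp_apply, hσσ]; rfl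
  have hfσ : ∀ z, f (σ z) = f z := fun z => by rw [← Scheme.Hom.comp_apply, hσf]
  have hfib : f ⁻¹' {f R} = ({R, σ R} : Set X) := by
    classical
    refine Set.Subset.antisymm (fun T hT => ?_) ?_
    swap
    · rintro T (rfl | rfl)
      · rfl
      · exact hfσ R
    simp only [Set.mem_preimage, Set.mem_singleton_iff] at hT
    by_contra hne
    simp only [Set.mem_insert_iff, Set.mem_singleton_iff, not_or] at hne
    obtain ⟨hTR, hTσ⟩ := hne
    have hTc : IsClosed ({T} : Set X) := by
      haveI := CurveCohLib.isNoetherian_of_proper (k := k) (X := X)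
      by_contra hc
      obtain rfl := CurveCohLib.eq_genericPoint_of_not_isClosed hdim hc
      rw [e] at hT
      exact CurveRamAC.not_isClosed_generic Y hdY (hT ▸ hy)
    have h2 := HypEll.ram_add_le X hdim Y hdY f hf e hTR hT hTc
    have h1 := HypEll.one_le_ram X hdim Y hdY f hf e hR
    have h1' := HypEll.one_le_ram X hdim Y hdY f hf e hTc
    have hram : CurveRamAC.ram f R = 1 := by omega
    by_cases hfix : σ R = R
    · exact hσ (HypEll.eq_id_of_fixed X hdim Y hdY f hf e σ hσf hR hfix hram)
    · obtain ⟨h3, h4⟩ := CurveRamAC.sum_ram X hdim Y hdY f hf e hy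
      rw [finsum_mem_eq_finite_toFinset_sum _ h3, hdeg] at h4
      have h5 : ({R, σ R, T} : Finset X).card ≤ ∑ z ∈ h3.toFinset, CurveRamAC.ram f z := by
        refine le_trans (Finset.card_le_card (t := h3.toFinset) ?_) ?_
        · intro z hz
          simp only [Finset.mem_insert, Finset.mem_singleton] at hz
          rcases hz with rfl | rfl | rfl <;> simp [hfσ, hT]
        · rw [Finset.card_eq_sum_ones]
          refine Finset.sum_le_sum fun z hz => ?_
          refine HypEll.one_le_ram X hdim Y hdY f hf e ?_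
          haveI := CurveCohLib.isNoetherian_of_proper (k := k) (X := X)
          by_contra hc
          obtain rfl := CurveCohLib.eq_genericPoint_of_not_isClosed hdim hc
          simp only [Set.Finite.mem_toFinset, Set.mem_preimage, Set.mem_singleton_iff] at hz
          rw [e] at hz
          exact CurveRamAC.not_isClosed_generic Y hdY (hz ▸ hy)
      rw [h4, Finset.card_eq_three.2 ⟨R, σ R, T, Ne.symm hfix, Ne.symm hTR, Ne.symm hTσ, rfl⟩] at h5
      omega
  have hyi := isInvertible_pt k hdY hy
  let J := (ptIdeal (f R) hy).comap f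
  have hcart : BlowUp.IsEffCartierIdeal J :=
    BlowUpLib.isEffCartier_comap_flat f ((S8914.result _).1 hyi)
  have hJ : PicF.IsInvertible (ClSub.idealMod J) := (S8914.result J).2 hcart
  obtain ⟨eJ⟩ := CurveAlgEquiv.nonempty_pullback_idealMod f (ptIdeal (f R) hy) hyi J hJ rfl
  have hdJ : Curv2.deg k X (ClSub.idealMod J) 1 = -2 := by
    rw [← CurveRR.deg_congr k eJ 1]
    refine (CurveFinMap.deg_pullback k f hdY hf e (InvEnd.isFinLocFreeOfRank_one hyi)).trans ?_
    rw [hdeg, show Curv2.deg k Y (ptMod (f R) hy) 1 = -1 from CurvePoint.deg_ptMod (f R) hy k]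
    norm_num
  have hsupp : (J.support : Set X) = {R, σ R} := by
    rw [Scheme.IdealSheafData.support_comap]
    exact hfib
  exact (H23.PicMul.cl_eq_iff.2 ⟨eJ⟩).trans (cl_eq_mul k hdim hJ hdJ hR hR' hsupp)

end Groth.Agent.GenusOnePt
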